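import Cfsg.Agent.H16.NunThree
import Cfsg.Agent.H16.NunLarge
import Cfsg.Agent.OddHalf.D8.Fi22.KAll

/-!
# `NUN` for `Fi22` (helper16)

From `OddHalf.D8.Fi22.All`: `z = d d'`, `Z(S) = ⟨z⟩`, and the normaliser of `⟨S ∩ T⟩` moves the pair `(d, d')` to `(c, d)`.
-/

set_option autoImplicit false

namespace Cfsg.Agent.H16.NunFi22

open Subgroup Cfsg Cfsg.Agent.UniqLoc Cfsg.Agent.OddHalf.D8.Fi22 Cfsg.Agent.H16.NunThree

universe v
variable {K : Type v} [Group K]

/-- the group generated by commuting involutions is a 2-group -/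
theorem isPGroup_closure {X : Set K} (hX : ∀ x ∈ X, ∀ y ∈ X, x * y = y * x) (hsq : ∀ x ∈ X, x * x = 1) :
    IsPGroup 2 (closure X) ∧ ∀ x ∈ closure X, ∀ y ∈ closure X, x * y = y * x := by
  have h1 : closure X ≤ centralizer X := by
    rw [closure_le]
    intro x hx
    exact mem_centralizer_iff.2 fun y hy => hX y hy x hx
  have h2 : closure X ≤ centralizer (closure X : Set K) := by
    rw [closure_le]
    intro x hx
    refine mem_centralizer_iff.2 fun y hy => ?_
    exact (mem_centralizer_iff.1 (h1 hy) x hx).symm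
  have h3 : ∀ x ∈ closure X, ∀ y ∈ closure X, x * y = y * x := fun x hx y hy =>
    (mem_centralizer_iff.1 (h2 hx) y hy).symm
  refine ⟨?_, h3⟩
  have h4 : ∀ x ∈ closure X, x * x = 1 := by
    intro x hx
    induction hx using closure_induction with
    | mem x hx => exact hsq x hx
    | one => rw [one_mul]
    | mul x y hx hy h5 h6 =>
      calc x * y * (x * y) = x * (y * x) * y := by group
        _ = x * (x * y) * y := by rw [h3 x hx y hy]
        _ = (x * x) * (y * y) := by group
        _ = 1 := by rw [h5, h6, one_mul]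
    | inv x hx h5 =>
      rw [← mul_inv_rev, h5, inv_one]
  intro x
  refine ⟨1, Subtype.ext ?_⟩
  show (x : K) ^ (2 ^ 1) = 1
  rw [pow_one, pow_two]
  exact h4 x x.2

variable {T : Set K} {d d' : K} {R : Subgroup K}

/-- `d d'` is not a transposition -/
theorem z_not_mem (h : All K T d d' R) : d * d' ∉ T := by
  intro hz
  -- a transposition commuting with `d'`, not with `d`
  obtain ⟨x, hx, hx', hxd⟩ : ∃ x ∈ T, x * d' = d' * x ∧ x * d ≠ d * x := by
    by_contra hcon
    push Not at hcon
    have h1 : closure {x : K | x ∈ T ∧ x * d' = d' * x} ≤ centralizer ({d} : Set K) := by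
      rw [closure_le]
      rintro x ⟨hx, hx'⟩
      exact mem_centralizer_singleton_iff.2 (hcon x hx hx')
    rw [h.kt.cent d' h.d'_mem] at h1
    rcases h.geo.cenJ d' h.d'_mem d h.facts.comm (fun j hj =>
      (mem_centralizer_singleton_iff.1 (h1 (mem_centralizer_singleton_iff.2 hj))).symm) with h2 | h2
    · exact h.facts.d_ne h2
    · exact h.facts.ne h2
  have h3 : x * d * x = d * x * d := (h.kt.three x hx d h.d_mem).resolve_left hxd
  have hxx := h.kt.sq x hx
  rcases h.kt.three x hx _ hz with h4 | h4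
  · apply hxd
    have : x * d * d' = d * x * d' := by
      calc x * d * d' = x * (d * d') := by group
        _ = d * (d' * x) := by rw [h4]; group
        _ = d * x * d' := by rw [← hx']; group
    exact mul_right_cancel this
  · have e1 : x * (d * d') * x = x * d * x * d' := by
      calc x * (d * d') * x = x * d * (d' * x) := by group
        _ = x * d * x * d' := by rw [← hx']; group
    have e2 : d * d' * x * (d * d') = d * x * d := by
      calc d * d' * x * (d * d') = d * (d' * x) * (d * d') := by group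
        _ = d * (x * d') * (d' * d) := by rw [← hx', h.facts.comm]
        _ = d * x * (d' * d') * d := by group
        _ = d * x * d := by rw [h.facts.dd', mul_one]
    have e3 : x * d * x * d' = x * d * x * 1 := by
      rw [← e1, h4, e2, mul_one, h3]
    exact h.facts.d'_ne (mul_left_cancel e3)

/-- there is a transposition commuting with `d` and `d'` and not with `c` -/
theorem exists_e (h : All K T d d' R) {c : K} (hc : c ∈ T) (hcd : c ≠ d) (hcd' : c ≠ d') (h1 : c * d = d * c)
    (h2 : c * d' = d' * c) : ∃ e ∈ T, e * d = d * e ∧ e * d' = d' * e ∧ e * c ≠ c * e := by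
  by_contra hcon
  push Not at hcon
  -- then all the transpositions commuting with `d`, `d'` commute
  set X : Set K := {x | x ∈ T ∧ x * d = d * x ∧ x * d' = d' * x} with hX
  have hcomm : ∀ x ∈ X, ∀ y ∈ X, x * y = y * x := by
    rintro x ⟨hx, hxd, hxd'⟩ y ⟨hy, hyd, hyd'⟩
    by_cases n1 : y = d
    · rw [n1, hxd]
    by_cases n2 : y = d'
    · rw [n2, hxd']
    obtain ⟨g, g1, g2, g3⟩ := h.kt.trans3 d h.d_mem d' h.d'_mem y hy d h.d_mem d' h.d'_mem c hc h.facts.ne
      (Ne.symm n1) (Ne.symm n2) h.facts.ne (Ne.symm hcd) (Ne.symm hcd') h.facts.comm hyd.symm hyd'.symm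
      h.facts.comm h1.symm h2.symm
    have conj : ∀ {a b : K}, a * b = b * a → (g * a * g⁻¹) * (g * b * g⁻¹) = (g * b * g⁻¹) * (g * a * g⁻¹) := by
      intro a b hab
      calc g * a * g⁻¹ * (g * b * g⁻¹) = g * (a * b) * g⁻¹ := by group
        _ = g * b * g⁻¹ * (g * a * g⁻¹) := by rw [hab]; group
    have h3 := hcon (g * x * g⁻¹) (h.kt.conj g x hx) (by have := conj hxd; rwa [g1] at this)
      (by have := conj hxd'; rwa [g2] at this)
    rw [← g3] at h3
    have h4 : g * (x * y) * g⁻¹ = g * (y * x) * g⁻¹ := by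
      calc g * (x * y) * g⁻¹ = g * x * g⁻¹ * (g * y * g⁻¹) := by group
        _ = g * (y * x) * g⁻¹ := by rw [h3]; group
    exact mul_left_cancel (mul_right_cancel h4)
  obtain ⟨hV2, hVc⟩ := isPGroup_closure hcomm fun x hx => h.kt.sq x hx.1
  have hVP : closure X ≤ centralizer ({d, d'} : Set K) := by
    rw [closure_le]
    rintro x ⟨-, hx1, hx2⟩
    exact Sheet22.mem_P.2 ⟨hx1, hx2⟩
  have hVn : ∀ g, g * d = d * g → g * d' = d' * g → ∀ x ∈ closure X, g * x * g⁻¹ ∈ closure X := by
    intro g hg hg' x hx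
    have h3 : (MulAut.conj g).toMonoidHom x ∈ (closure X).map (MulAut.conj g).toMonoidHom := ⟨x, hx, rfl⟩
    rw [MonoidHom.map_closure] at h3
    refine closure_mono ?_ h3
    rintro _ ⟨y, ⟨hy, hy1, hy2⟩, rfl⟩
    refine ⟨h.kt.conj g y hy, ?_, ?_⟩
    · show g * y * g⁻¹ * d = d * (g * y * g⁻¹)
      have e : g⁻¹ * d = d * g⁻¹ := by
        calc g⁻¹ * d = g⁻¹ * (d * g) * g⁻¹ := by group
          _ = d * g⁻¹ := by rw [← hg]; group
      calc g * y * g⁻¹ * d = g * y * (g⁻¹ * d) := by group
        _ = g * (y * d) * g⁻¹ := by rw [e]; group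
        _ = (g * d) * y * g⁻¹ := by rw [hy1]; group
        _ = d * (g * y * g⁻¹) := by rw [hg]; group
    · show g * y * g⁻¹ * d' = d' * (g * y * g⁻¹)
      have e : g⁻¹ * d' = d' * g⁻¹ := by
        calc g⁻¹ * d' = g⁻¹ * (d' * g) * g⁻¹ := by group
          _ = d' * g⁻¹ := by rw [← hg']; group
      calc g * y * g⁻¹ * d' = g * y * (g⁻¹ * d') := by group
        _ = g * (y * d') * g⁻¹ := by rw [e]; group
        _ = (g * d') * y * g⁻¹ := by rw [hy2]; group
        _ = d' * (g * y * g⁻¹) := by rw [hg']; group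
  have hVR := h.facts.O2 (closure X) hVP hVn hV2
  rcases h.facts.dich (closure X) hVR hVn with h3 | h3
  · obtain ⟨x, hx, y, hy, hxy⟩ := h.facts.R_nonab
    rw [← h3] at hx hy
    have h4 := hVc x hx y hy
    rw [h4] at hxy
    have h5 : d * d' = 1 := by rw [← hxy]; group
    exact Sheet22.z_ne h.facts h5
  · rcases h3 c (subset_closure ⟨hc, h1, h2⟩) with h4 | h4 | h4 | h4
    · exact h.kt.ne1 c hc h4
    · exact hcd h4
    · exact hcd' h4
    · exact z_not_mem h (h4 ▸ hc)

/-- **`NUN` for `Fi22`.** -/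
theorem nun_of_all (h : All K T d d' R) : NUN K := by
  have hfin : Finite K := Sheet22.finite h.facts
  have hp2 : Fact (Nat.Prime 2) := ⟨Nat.prime_two⟩
  obtain ⟨c, hc, hcd, hcd', h1, h2⟩ := h.kt.nb d h.d_mem d' h.d'_mem
  obtain ⟨e, he, he1, he2, hec⟩ := exists_e h hc hcd hcd' h1 h2
  have hcz : c * (d * d') = d * d' * c := by
    calc c * (d * d') = (c * d) * d' := by group
      _ = d * (c * d') := by rw [h1]; group
      _ = d * d' * c := by rw [h2]; group
  have hez : e * (d * d') = d * d' * e := by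
    calc e * (d * d') = (e * d) * d' := by group
      _ = d * (e * d') := by rw [he1]; group
      _ = d * d' * e := by rw [he2]; group
  -- the Sylow subgroup
  have hRc : R ≤ centralizer ({d * d'} : Set K) := fun x hx => by
    have := Sheet22.mem_P.1 (h.facts.R_le hx)
    exact mem_centralizer_singleton_iff.2 (Sheet22.z_comm (h.facts.R_le hx))
  have hc2 : IsPGroup 2 (zpowers c) := QTUnique.isPGroup_zpowers (h.kt.sq c hc)
  have hcn : zpowers c ≤ normalizer (R : Set K) := by
    rw [zpowers_le]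
    exact Second.mem_normalizer_of_conj fun x hx => h.facts.R_normal c hcz x hx
  have hRC : IsPGroup 2 (zpowers c ⊔ R : Subgroup K) := hc2.to_sup_of_normal_right' h.facts.R_two hcn
  have hle : zpowers c ⊔ R ≤ centralizer ({d * d'} : Set K) :=
    sup_le (by rw [zpowers_le]; exact mem_centralizer_singleton_iff.2 hcz) hRc
  obtain ⟨S, hS1, hS2⟩ := NunLarge.exists_sylow_between h.facts.odd.not_two_dvd_nat hRC hle
  have hcS : c ∈ (S : Subgroup K) := hS1 ((le_sup_left : zpowers c ≤ _) (mem_zpowers c))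
  have hRS : R ≤ S := le_sup_right.trans hS1
  have hdS : d ∈ (S : Subgroup K) := hRS h.facts.d_mem
  have hd'S : d' ∈ (S : Subgroup K) := hRS h.facts.d'_mem
  have hzS : d * d' ∈ (S : Subgroup K) := S.mul_mem hdS hd'S
  have hz1 := Sheet22.z_ne h.facts
  have hzz := Sheet22.zz h.facts
  have hNz : normalizer ((S : Subgroup K) : Set K) ≤ centralizer ({d * d'} : Set K) :=
    UniqSheet.normalizer_le_centralizer hz1 hzS (fun x hx => mem_centralizer_singleton_iff.1 (hS2 hx))
      fun y hy hy' => h.facts.center_S S hS2 y hy fun x hx => (hy' x hx).symm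
  refine nun_of_U S fun U hUS hU2 hU1 hU => ?_
  -- C(z) ≤ N(U)
  have hz2 : IsPGroup 2 (zpowers (d * d')) := QTUnique.isPGroup_zpowers hzz
  have hzne : zpowers (d * d') ≠ ⊥ := by
    rw [Ne, zpowers_eq_bot]; exact hz1
  have hCz : centralizer ({d * d'} : Set K) ≤ normalizer (U : Set K) :=
    (QTUnique.centralizer_le_normalizer_zpowers _).trans
      (hU (zpowers (d * d')) hz2 hzne (hNz.trans (QTUnique.centralizer_le_normalizer_zpowers _)))
  -- z ∈ U
  have hzU : d * d' ∈ U := by
    obtain ⟨x, hx, hx1, hx2⟩ := exists_center S hUS hU1 (hS2.trans hCz)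
    rcases h.facts.center_S S hS2 x (hUS hx) fun y hy => (hx2 y hy).symm with h3 | h3
    · exact absurd h3 hx1
    · rwa [h3] at hx
  -- the normaliser of `⟨S ∩ T⟩`
  have hTc : Comm T := comm_of_three h.kt.sq h.kt.three
  obtain ⟨g, g1, g2⟩ := h.kt.trans2 d h.d_mem d' h.d'_mem c hc d h.d_mem h.facts.ne hcd h.facts.comm h1
  obtain ⟨n, hn, n1, n2⟩ := fusion S h.kt.conj hTc ⟨hdS, h.d_mem⟩ ⟨hd'S, h.d'_mem⟩
    (g := g) (by rw [g1]; exact ⟨hcS, hc⟩) (by rw [g2]; exact ⟨hdS, h.d_mem⟩)
  have hV2 : IsPGroup 2 (closure (((S : Subgroup K) : Set K) ∩ T)) := by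
    refine S.isPGroup'.to_le ?_
    rw [closure_le]
    exact fun x hx => hx.1
  have hV1 : closure (((S : Subgroup K) : Set K) ∩ T) ≠ ⊥ := by
    intro h3
    have h4 : d ∈ closure (((S : Subgroup K) : Set K) ∩ T) := subset_closure ⟨hdS, h.d_mem⟩
    rw [h3, mem_bot] at h4
    exact h.facts.d_ne h4
  have hnU : n ∈ normalizer (U : Set K) := hU _ hV2 hV1 (le_normalizer_closure _ h.kt.conj) hn
  have hcdU : c * d ∈ U := by
    have h3 := (mem_normalizer_iff.1 hnU (d * d')).1 hzU
    have h4 : n * (d * d') * n⁻¹ = (n * d * n⁻¹) * (n * d' * n⁻¹) := by group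
    rw [h4, n1, n2, g1, g2] at h3
    exact h3
  have heU : e * (c * d) * e⁻¹ ∈ U :=
    (mem_normalizer_iff.1 (hCz (mem_centralizer_singleton_iff.2 hez)) (c * d)).1 hcdU
  have hee := h.kt.sq e he
  have hdd := h.facts.dd
  have hei : e⁻¹ = e := inv_eq_of_mul_eq_one_left hee
  have hprod : c * e * (c * e) ∈ U := by
    have h3 := U.mul_mem hcdU heU
    have h4 : c * d * (e * (c * d) * e⁻¹) = c * e * (c * e) := by
      rw [hei]
      calc c * d * (e * (c * d) * e) = c * (d * e) * c * (d * e) := by group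
        _ = c * (e * d) * c * (e * d) := by rw [he1]
        _ = c * e * (d * c) * (e * d) := by group
        _ = c * e * (c * d) * (d * e) := by rw [h1, he1]
        _ = c * e * c * (d * d) * e := by group
        _ = c * e * (c * e) := by rw [hdd]; group
    rwa [h4] at h3
  -- (c e)^3 = 1
  have hce : c * e * (c * e) * (c * e) = 1 := by
    rcases h.kt.three c hc e he with h3 | h3
    · exact absurd h3.symm hec
    · calc c * e * (c * e) * (c * e) = (c * e * c) * (e * c * e) := by group
        _ = (e * c * e) * (e * c * e) := by rw [h3]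
        _ = e * c * (e * e) * c * e := by group
        _ = e * (c * c) * e := by rw [hee]; group
        _ = 1 := by rw [h.kt.sq c hc, mul_one, hee]
  have h3 : (c * e * (c * e)) ^ 3 = 1 := by
    calc (c * e * (c * e)) ^ 3 = (c * e * (c * e) * (c * e)) * (c * e * (c * e) * (c * e)) := by
          rw [pow_succ, pow_two]; group
      _ = 1 := by rw [hce, one_mul]
  have h4 := eq_one_of_three hprod hU2 h3
  have h5 : c * e = 1 := by
    rw [h4, one_mul] at hce
    exact hce
  apply hec
  have h6 : c = e := by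
    calc c = c * (e * e) := by rw [hee, mul_one]
      _ = (c * e) * e := by group
      _ = e := by rw [h5, one_mul]
  rw [h6]

/-- **`NUN` for `Fi22`.** -/
theorem nun_of_iso (h : Spor.IsoFi22 K) : NUN K := by
  obtain ⟨T, d, d', R, h1⟩ := exists_all h
  exact nun_of_all h1

end Cfsg.Agent.H16.NunFi22
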