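import Cfsg.Agent.UniqLoc.Second
import Cfsg.Agent.QTUnique.Crit

/-!
# `NUN` and 3-transpositions (helper16)

* `nun_of_U`: the criterion with the 2-subgroup `U` with `M = N(U)`.
* `fusion`: `D` a normal set, commuting inside 2-subgroups; `N(S ∩ D)` controls the fusion of pairs in `S ∩ D`.
-/

set_option autoImplicit false

namespace Cfsg.Agent.H16.NunThree

open Subgroup Cfsg Cfsg.Agent.UniqLoc Cfsg.Agent.QTUnique
open scoped Pointwise

variable {G : Type*} [Group G]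

/-- **The criterion with `U`.** -/
theorem nun_of_U [Finite G] (T : Sylow 2 G)
    (h : ∀ U : Subgroup G, U ≤ T → IsPGroup 2 U → U ≠ ⊥ →
      (∀ V : Subgroup G, IsPGroup 2 V → V ≠ ⊥ → normalizer ((T : Subgroup G) : Set G) ≤ normalizer (V : Set G) →
        normalizer (V : Set G) ≤ normalizer (U : Set G)) → False) : NUN G := by
  have h2 : Fact (Nat.Prime 2) := ⟨Nat.prime_two⟩
  refine nun_of_sylow T fun M hM => ?_
  rw [over_eq] at hM
  obtain ⟨⟨⟨U, hU, hU1, hUn⟩, -⟩, hTM⟩ := unique_mem hM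
  have hTU : (T : Subgroup G) ≤ normalizer (U : Set G) := by rw [← hUn]; exact Subgroup.le_normalizer.trans hTM
  have hUT : U ≤ T := by
    have h3 : IsPGroup 2 (U ⊔ (T : Subgroup G) : Subgroup G) := by
      rw [sup_comm]
      exact T.isPGroup'.to_sup_of_normal_right' hU hTU
    have h4 := T.is_maximal' h3 le_sup_right
    rw [← h4]
    exact le_sup_left
  refine h U hUT hU hU1 fun V hV hV1 hTV => ?_
  rw [← hUn]
  exact QTUnique.normalizer_le hM hV hV1 hTV

/-- a nontrivial `U` as above meets the centre of `T` -/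
theorem exists_center [Finite G] (T : Sylow 2 G) {U : Subgroup G} (hUT : U ≤ T) (hU1 : U ≠ ⊥)
    (hn : (T : Subgroup G) ≤ normalizer (U : Set G)) : ∃ x ∈ U, x ≠ 1 ∧ ∀ t ∈ (T : Subgroup G), t * x = x * t :=
  exists_fixed T.isPGroup' (T.isPGroup'.to_le hUT) hU1 hn

/-- an element of order dividing 3 of a 2-group -/
theorem eq_one_of_three {P : Subgroup G} {x : G} (hx : x ∈ P) (hP : IsPGroup 2 P) (h3 : x ^ 3 = 1) : x = 1 := by
  obtain ⟨k, hk⟩ := hP ⟨x, hx⟩
  have hk' : x ^ (2 ^ k) = 1 := congrArg Subtype.val hk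
  have hd : orderOf x ∣ 1 := by
    have h4 := Nat.dvd_gcd (orderOf_dvd_of_pow_eq_one hk') (orderOf_dvd_of_pow_eq_one h3)
    rwa [show Nat.gcd (2 ^ k) 3 = 1 from Nat.Coprime.pow_left k (by norm_num)] at h4
  exact orderOf_eq_one_iff.1 (Nat.dvd_one.1 hd)

section fusion

variable {D : Set G}

/-- `N(T)` normalises `⟨T ∩ D⟩` -/
theorem le_normalizer_closure [Finite G] (T : Subgroup G) (hD : ∀ g : G, ∀ x ∈ D, g * x * g⁻¹ ∈ D) :
    normalizer (T : Set G) ≤ normalizer (closure ((T : Set G) ∩ D) : Set G) := by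
  intro g hg
  apply Second.mem_normalizer_of_conj
  intro x hx
  have h1 : (MulAut.conj g).toMonoidHom x ∈ (closure ((T : Set G) ∩ D)).map (MulAut.conj g).toMonoidHom := ⟨x, hx, rfl⟩
  rw [MonoidHom.map_closure] at h1
  refine closure_mono ?_ h1
  rintro _ ⟨y, ⟨hy, hyD⟩, rfl⟩
  exact ⟨(mem_normalizer_iff.1 hg y).1 hy, hD g y hyD⟩

/-- the elements of `D` in a 2-subgroup commute -/
def Comm (D : Set G) : Prop := ∀ P : Subgroup G, IsPGroup 2 P → ∀ x ∈ P, ∀ y ∈ P, x ∈ D → y ∈ D → x * y = y * x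

/-- 3-transpositions have the property `Comm` -/
theorem comm_of_three (sq : ∀ x ∈ D, x * x = 1) (three : ∀ x ∈ D, ∀ y ∈ D, x * y = y * x ∨ x * y * x = y * x * y) :
    Comm D := by
  intro P hP x hx y hy hxD hyD
  rcases three x hxD y hyD with h | h
  · exact h
  · have h3 : (x * y) ^ 3 = 1 := by
      have e : (x * y) ^ 3 = (x * y * x) * (y * x * y) := by
        rw [pow_succ, pow_two]; group
      rw [e, h]
      calc y * x * y * (y * x * y) = y * x * (y * y) * x * y := by group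
        _ = y * (x * x) * y := by rw [sq y hyD, mul_one]; group
        _ = 1 := by rw [sq x hxD, mul_one, sq y hyD]
    have h5 : y = x := by
      have h1 := eq_one_of_three (P.mul_mem hx hy) hP h3
      calc y = (x * x) * y := by rw [sq x hxD, one_mul]
        _ = x * (x * y) := by group
        _ = x := by rw [h1, mul_one]
    rw [h5]

/-- `T ∩ D` is determined by its cardinality -/
theorem eq_inter [Finite G] (T : Sylow 2 G) (hD : ∀ g : G, ∀ x ∈ D, g * x * g⁻¹ ∈ D) {P : Subgroup G} (hP : IsPGroup 2 P)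
    {B : Set G} (hB : B ⊆ (P : Set G) ∩ D) (hc : B.ncard = ((T : Set G) ∩ D).ncard) : B = (P : Set G) ∩ D := by
  have h2 : Fact (Nat.Prime 2) := ⟨Nat.prime_two⟩
  obtain ⟨S, hS⟩ := hP.exists_le_sylow
  obtain ⟨k, hk⟩ := MulAction.exists_smul_eq G T S
  have h1 : ((S : Set G) ∩ D).ncard = ((T : Set G) ∩ D).ncard := by
    have e : (S : Set G) ∩ D = (fun x => k * x * k⁻¹) '' ((T : Set G) ∩ D) := by
      ext x
      constructor
      · rintro ⟨hx, hxD⟩
        rw [← hk] at hx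
        obtain ⟨y, hy, rfl⟩ := hx
        refine ⟨y, ⟨hy, ?_⟩, rfl⟩
        have this : k⁻¹ * (MulAut.conj k y) * k⁻¹⁻¹ ∈ D := hD k⁻¹ _ hxD
        have e1 : k⁻¹ * ((MulAut.conj k) y) * k⁻¹⁻¹ = y := by
          rw [MulAut.conj_apply]; group
        rw [e1] at this
        exact this
      · rintro ⟨y, ⟨hy, hyD⟩, rfl⟩
        refine ⟨?_, hD k y hyD⟩
        rw [← hk]
        exact ⟨y, hy, rfl⟩
    rw [e]
    exact Set.ncard_image_of_injective _ fun x y h => mul_left_cancel (mul_right_cancel h)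
  refine subset_antisymm hB ?_
  have h3 : B ⊆ (S : Set G) ∩ D := fun x hx => ⟨hS (hB hx).1, (hB hx).2⟩
  have h4 : B = (S : Set G) ∩ D := Set.eq_of_subset_of_ncard_le h3 (by rw [hc, h1]) (Set.toFinite _)
  rw [h4]
  exact fun x hx => ⟨hS hx.1, hx.2⟩

/-- **Fusion of pairs** in `T ∩ D` is controlled by the normaliser. -/
theorem fusion [Finite G] (T : Sylow 2 G) (hD : ∀ g : G, ∀ x ∈ D, g * x * g⁻¹ ∈ D) (hC : Comm D) {a b : G}
    (ha : a ∈ (T : Set G) ∩ D) (hb : b ∈ (T : Set G) ∩ D) {g : G} (hga : g * a * g⁻¹ ∈ (T : Set G) ∩ D)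
    (hgb : g * b * g⁻¹ ∈ (T : Set G) ∩ D) :
    ∃ n ∈ normalizer (closure ((T : Set G) ∩ D) : Set G), n * a * n⁻¹ = g * a * g⁻¹ ∧ n * b * n⁻¹ = g * b * g⁻¹ := by
  have h2 : Fact (Nat.Prime 2) := ⟨Nat.prime_two⟩
  set B := (T : Set G) ∩ D with hBd
  set A := closure B with hA
  set X := centralizer ({g * a * g⁻¹, g * b * g⁻¹} : Set G) with hX
  have hmemX : ∀ x : G, x * (g * a * g⁻¹) = (g * a * g⁻¹) * x → x * (g * b * g⁻¹) = (g * b * g⁻¹) * x → x ∈ X := by
    intro x h1 h3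
    rw [hX, mem_centralizer_iff]
    rintro y (rfl | rfl)
    · exact h1.symm
    · exact h3.symm
  have hAT : A ≤ T := by
    rw [hA, closure_le]
    exact fun x hx => hx.1
  have hA2 : IsPGroup 2 A := T.isPGroup'.to_le hAT
  have hAX : A ≤ X := by
    rw [hA, closure_le]
    intro x hx
    exact hmemX x (hC T T.isPGroup' x hx.1 _ hga.1 hx.2 hga.2) (hC T T.isPGroup' x hx.1 _ hgb.1 hx.2 hgb.2)
  set A' := A.map (MulAut.conj g).toMonoidHom with hA'
  have hA'2 : IsPGroup 2 A' := hA2.map _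
  have hA'X : A' ≤ X := by
    rintro _ ⟨y, hy, rfl⟩
    have h3 : A ≤ centralizer ({a, b} : Set G) := by
      rw [hA, closure_le]
      intro x hx
      refine mem_centralizer_iff.2 ?_
      rintro y (rfl | rfl)
      · exact (hC T T.isPGroup' x hx.1 _ ha.1 hx.2 ha.2).symm
      · exact (hC T T.isPGroup' x hx.1 _ hb.1 hx.2 hb.2).symm
    have h4 := mem_centralizer_iff.1 (h3 hy)
    have h5 := h4 a (by simp)
    have h6 := h4 b (by simp)
    refine hmemX _ ?_ ?_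
    · show g * y * g⁻¹ * (g * a * g⁻¹) = g * a * g⁻¹ * (g * y * g⁻¹)
      calc g * y * g⁻¹ * (g * a * g⁻¹) = g * (y * a) * g⁻¹ := by group
        _ = g * (a * y) * g⁻¹ := by rw [h5]
        _ = g * a * g⁻¹ * (g * y * g⁻¹) := by group
    · show g * y * g⁻¹ * (g * b * g⁻¹) = g * b * g⁻¹ * (g * y * g⁻¹)
      calc g * y * g⁻¹ * (g * b * g⁻¹) = g * (y * b) * g⁻¹ := by group
        _ = g * (b * y) * g⁻¹ := by rw [h6]
        _ = g * b * g⁻¹ * (g * y * g⁻¹) := by group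
  have hp1 : IsPGroup 2 (A.subgroupOf X) :=
    hA2.of_injective (Subgroup.subgroupOfEquivOfLe hAX).toMonoidHom (Subgroup.subgroupOfEquivOfLe hAX).injective
  have hp2 : IsPGroup 2 (A'.subgroupOf X) :=
    hA'2.of_injective (Subgroup.subgroupOfEquivOfLe hA'X).toMonoidHom (Subgroup.subgroupOfEquivOfLe hA'X).injective
  obtain ⟨P1, hP1⟩ := hp1.exists_le_sylow
  obtain ⟨P2, hP2⟩ := hp2.exists_le_sylow
  obtain ⟨h, hh⟩ := MulAction.exists_smul_eq X P2 P1
  set P := (P1 : Subgroup X).map X.subtype with hPd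
  have hPp : IsPGroup 2 P := P1.isPGroup'.map _
  have hAP : A ≤ P := fun x hx => ⟨⟨x, hAX hx⟩, hP1 hx, rfl⟩
  have hB1 : B = (P : Set G) ∩ D := eq_inter T hD hPp (fun x hx => ⟨hAP (subset_closure hx), hx.2⟩) rfl
  -- the element `n = h g`
  have hn : ∀ x ∈ B, ((h : G) * g) * x * ((h : G) * g)⁻¹ ∈ B := by
    intro x hx
    rw [hB1]
    refine ⟨?_, hD _ x hx.2⟩
    have hxA' : g * x * g⁻¹ ∈ A' := ⟨x, subset_closure hx, rfl⟩
    have h3 : (⟨g * x * g⁻¹, hA'X hxA'⟩ : X) ∈ P2 := hP2 hxA'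
    have h4 : h * ⟨g * x * g⁻¹, hA'X hxA'⟩ * h⁻¹ ∈ P1 := by
      rw [← hh]
      exact ⟨_, h3, rfl⟩
    refine ⟨_, h4, ?_⟩
    show (h : G) * (g * x * g⁻¹) * (h : G)⁻¹ = _
    group
  refine ⟨(h : G) * g, ?_, ?_, ?_⟩
  · apply Second.mem_normalizer_of_conj
    intro x hx
    have h1 : (MulAut.conj ((h : G) * g)).toMonoidHom x ∈ A.map (MulAut.conj ((h : G) * g)).toMonoidHom := ⟨x, hx, rfl⟩
    rw [hA, MonoidHom.map_closure] at h1
    refine closure_mono ?_ h1
    rintro _ ⟨y, hy, rfl⟩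
    exact hn y hy
  · have h3 := mem_centralizer_iff.1 h.2 (g * a * g⁻¹) (by simp)
    calc (h : G) * g * a * ((h : G) * g)⁻¹ = (h : G) * (g * a * g⁻¹) * (h : G)⁻¹ := by group
      _ = (g * a * g⁻¹) * (h : G) * (h : G)⁻¹ := by rw [← h3]
      _ = g * a * g⁻¹ := by group
  · have h3 := mem_centralizer_iff.1 h.2 (g * b * g⁻¹) (by simp)
    calc (h : G) * g * b * ((h : G) * g)⁻¹ = (h : G) * (g * b * g⁻¹) * (h : G)⁻¹ := by group
      _ = (g * b * g⁻¹) * (h : G) * (h : G)⁻¹ := by rw [← h3]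
      _ = g * b * g⁻¹ := by group

end fusion

end Cfsg.Agent.H16.NunThree
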